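import Groth.Agent.L22.AffineDim
import Mathlib.RingTheory.Ideal.KrullsHeightTheorem
import Mathlib.RingTheory.Jacobson.Ring
import Mathlib.FieldTheory.IsAlgClosed.Basic
import Mathlib.RingTheory.AlgebraicIndependent.TranscendenceBasis
import Mathlib.LinearAlgebra.TensorProduct.Basis

/-!
Hopf's lemma: the image of a bilinear map injective in each variable over an algebraically closed
field has dimension at least the sum of the dimensions minus one.
-/

set_option autoImplicit false
universe u

open MvPolynomial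

namespace Groth.L21.Hopf

variable {k : Type u} [Field k] [IsAlgClosed k]

/-- Fewer than `a + b - 1` bilinear forms have a common zero `(x, y)` with `x ≠ 0` and `y ≠ 0`. -/
theorem exists_common_zero {a b c : ℕ} (h : c + 2 ≤ (a + 1) + (b + 1))
    (M : Fin c → Fin (a + 1) → Fin (b + 1) → k) :
    ∃ (x : Fin (a + 1) → k) (y : Fin (b + 1) → k), x ≠ 0 ∧ y ≠ 0 ∧
      ∀ l, ∑ i, ∑ j, M l i j * (x i * y j) = 0 := by
  classical
  by_contra hcon
  let σ := Fin (a + 1) ⊕ Fin (b + 1)
  let mon : Fin (a + 1) × Fin (b + 1) → MvPolynomial σ k := fun p => X (Sum.inl p.1) * X (Sum.inr p.2)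
  let S : Subalgebra k (MvPolynomial σ k) := Algebra.adjoin k (Set.range mon)
  let z : Fin (a + 1) × Fin (b + 1) → S := fun p => ⟨mon p, Algebra.subset_adjoin ⟨p, rfl⟩⟩
  haveI : Algebra.FiniteType k S := (Subalgebra.fg_iff_finiteType S).mp
    (Subalgebra.fg_def.mpr ⟨Set.range mon, Set.finite_range mon, rfl⟩)
  haveI : IsNoetherianRing S := Algebra.FiniteType.isNoetherianRing k S
  haveI : IsJacobsonRing S := isJacobsonRing_of_finiteType (A := k)
  have hztop : Algebra.adjoin k (Set.range z) = ⊤ := by
    apply Subalgebra.map_injective (f := S.val) Subtype.val_injective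
    rw [AlgHom.map_adjoin, Algebra.map_top, Subalgebra.range_val, ← Set.range_comp]
    rfl
  let form : Fin c → S := fun l => ∑ i, ∑ j, M l i j • z (i, j)
  let J : Ideal S := Ideal.span (Set.range form)
  let φ0 : S →ₐ[k] k := (aeval (0 : σ → k)).comp S.val
  let m0 : Ideal S := RingHom.ker φ0
  haveI : m0.IsMaximal := RingHom.ker_isMaximal_of_surjective φ0.toRingHom
    fun t => ⟨algebraMap k S t, φ0.commutes t⟩
  have hφ0 : ∀ p, φ0 (z p) = 0 := fun p => by simp [φ0, z, mon]
  -- every maximal ideal over the forms is the origin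
  have hmax : ∀ m : Ideal S, m.IsMaximal → J ≤ m → m = m0 := by
    intro m hm hJ
    letI : Field (S ⧸ m) := Ideal.Quotient.field m
    haveI : Module.Finite k (S ⧸ m) := finite_of_finite_type_of_isJacobsonRing k (S ⧸ m)
    let e := AlgEquiv.ofBijective (Algebra.ofId k (S ⧸ m))
      (IsAlgClosed.algebraMap_bijective_of_isIntegral (k := k) (K := S ⧸ m))
    let φ : S →ₐ[k] k := e.symm.toAlgHom.comp (Ideal.Quotient.mkₐ k m)
    have hker : ∀ s, φ s = 0 ↔ s ∈ m := fun s => by
      simp [φ, Ideal.Quotient.eq_zero_iff_mem]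
    have hform : ∀ l, ∑ i, ∑ j, M l i j * φ (z (i, j)) = 0 := by
      intro l
      have := (hker (form l)).mpr (hJ (Ideal.subset_span ⟨l, rfl⟩))
      simpa [form, map_sum, map_smul] using this
    have hzero : ∀ p, φ (z p) = 0 := by
      rintro ⟨i₀, j₀⟩
      by_contra hne
      apply hcon
      refine ⟨fun i => φ (z (i, j₀)), fun j => φ (z (i₀, j)) / φ (z (i₀, j₀)), fun hx => hne (congrFun hx i₀),
        fun hy => by simpa [div_self hne] using congrFun hy j₀, fun l => ?_⟩
      refine (Finset.sum_congr rfl fun i _ => Finset.sum_congr rfl fun j _ => ?_).trans (hform l)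
      have hrel : z (i, j₀) * z (i₀, j) = z (i, j) * z (i₀, j₀) := Subtype.ext (by
        simp only [z, mon, Subalgebra.coe_mul]; ring)
      have h' := congrArg φ hrel
      rw [map_mul, map_mul] at h'
      rw [mul_div_assoc', h', mul_div_assoc, div_self hne, mul_one]
    have hφ : φ = φ0 := AlgHom.ext_of_adjoin_eq_top hztop (by
      rintro _ ⟨p, rfl⟩
      rw [hzero, hφ0])
    ext s
    rw [← hker, hφ]
    rfl
  have hJ0 : J ≤ m0 := by
    rw [Ideal.span_le]
    rintro _ ⟨l, rfl⟩
    show φ0 (form l) = 0
    simp [form, map_sum, map_smul, hφ0]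
  have hmin : m0 ∈ J.minimalPrimes := by
    refine ⟨⟨inferInstance, hJ0⟩, fun P ⟨hP, hJP⟩ _ => ?_⟩
    have hP' : P = sInf {m | P ≤ m ∧ m.IsMaximal} := (IsJacobsonRing.out (R := S) inferInstance hP.isRadical).symm
    rw [hP']
    exact le_sInf fun m ⟨hPm, hm⟩ => (hmax m hm (hJP.trans hPm)).ge
  have hheight : m0.height ≤ (c : ℕ∞) := by
    have h1 := Ideal.height_le_card_of_mem_minimalPrimes_span_finset (s := Finset.univ.image form) (p := m0)
      (by rw [Finset.coe_image, Finset.coe_univ, Set.image_univ]; exact hmin)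
    refine h1.trans ?_
    exact_mod_cast Finset.card_image_le.trans (le_of_eq (Finset.card_fin c))
  -- the dimension of the Segre cone
  have hdim := Groth.L22.AffineDim.height_of_isMaximal (k := k) S m0
  obtain ⟨d, hd⟩ : ∃ d : ℕ, m0.height = (d : ℕ∞) := ⟨m0.height.toNat,
    (ENat.coe_toNat (ne_top_of_le_ne_top (ENat.coe_ne_top c) hheight)).symm⟩
  rw [hd] at hdim hheight
  have hdc : d ≤ c := by exact_mod_cast hheight
  let K := FractionRing S
  have htr := Groth.L22.AffineDim.trdeg_fractionRing (k := k) S K hdim.symm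
  let t : Fin (a + 1) ⊕ Fin b → S := Sum.elim (fun i => z (i, 0)) fun j => z (0, j.succ)
  have hti : AlgebraicIndependent k t := by
    rw [algebraicIndependent_iff_injective_aeval]
    refine Function.Injective.of_comp (f := S.val) ?_
    let T := Fin (a + 1) ⊕ Fin b
    let L := FractionRing (MvPolynomial T k)
    let v : T → L := fun s => algebraMap (MvPolynomial T k) L (X s)
    let θ : MvPolynomial σ k →ₐ[k] L := aeval (Sum.elim (fun i => v (Sum.inl i))
      (Fin.cons 1 fun j => v (Sum.inr j) / v (Sum.inl 0)))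
    have hcomp : θ.comp (S.val.comp (aeval t)) = IsScalarTower.toAlgHom k (MvPolynomial T k) L := by
      apply MvPolynomial.algHom_ext
      rintro (i | j)
      · simp [θ, t, z, mon, v]
        rfl
      · have hv : v (Sum.inl 0) ≠ 0 := fun h0 => X_ne_zero (Sum.inl 0)
          (IsFractionRing.injective (MvPolynomial T k) L (h0.trans (map_zero _).symm))
        simp [θ, t, z, mon]
        rw [mul_div_cancel₀ _ hv]
        rfl
    intro p q hpq
    apply IsFractionRing.injective (MvPolynomial T k) L
    have h1 := congrArg θ hpq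
    rw [← IsScalarTower.toAlgHom_apply k, ← IsScalarTower.toAlgHom_apply k, ← hcomp]
    exact h1
  have htK := hti.map' (f := IsScalarTower.toAlgHom k S K) (IsFractionRing.injective S K)
  have hle := htK.lift_cardinalMk_le_trdeg
  rw [htr] at hle
  simp only [Cardinal.mk_fintype, Fintype.card_sum, Fintype.card_fin, Cardinal.lift_natCast, Nat.cast_le] at hle
  omega

/-- Hopf's lemma. -/
theorem finrank_add_finrank_le {A B C : Type*} [AddCommGroup A] [Module k A] [AddCommGroup B]
    [Module k B] [AddCommGroup C] [Module k C] [FiniteDimensional k A] [FiniteDimensional k B]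
    [Nontrivial A] [Nontrivial B] (ν : A →ₗ[k] B →ₗ[k] C)
    (h : ∀ (a : A) (b : B), a ≠ 0 → b ≠ 0 → ν a b ≠ 0) (W : Submodule k C) [FiniteDimensional k W]
    (hW : ∀ a b, ν a b ∈ W) :
    Module.finrank k A + Module.finrank k B ≤ Module.finrank k W + 1 := by
  classical
  obtain ⟨a, ha⟩ := Nat.exists_eq_succ_of_ne_zero (Module.finrank_pos (R := k) (M := A)).ne'
  obtain ⟨b, hb⟩ := Nat.exists_eq_succ_of_ne_zero (Module.finrank_pos (R := k) (M := B)).ne'
  by_contra hlt
  let eA := Module.finBasisOfFinrankEq k A ha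
  let eB := Module.finBasisOfFinrankEq k B hb
  let eW := Module.finBasis k W
  obtain ⟨x, y, hx, hy, hxy⟩ := exists_common_zero (a := a) (b := b) (c := Module.finrank k W) (by omega)
    fun l i j => eW.repr ⟨ν (eA i) (eB j), hW _ _⟩ l
  refine h (∑ i, x i • eA i) (∑ j, y j • eB j) (fun h0 => hx ?_) (fun h0 => hy ?_) ?_
  · funext i
    exact Fintype.linearIndependent_iff.mp eA.linearIndependent x h0 i
  · funext j
    exact Fintype.linearIndependent_iff.mp eB.linearIndependent y h0 j
  · have hz : (∑ i, ∑ j, (x i * y j) • (⟨ν (eA i) (eB j), hW _ _⟩ : W)) = 0 := by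
      apply eW.repr.injective
      ext l
      simp only [map_sum, map_smul, map_zero, Finsupp.coe_finsetSum, Finset.sum_apply,
        Finsupp.coe_smul, Pi.smul_apply, smul_eq_mul, Finsupp.zero_apply]
      rw [← hxy l]
      exact Finset.sum_congr rfl fun i _ => Finset.sum_congr rfl fun j _ => mul_comm _ _
    have hz' := congrArg Subtype.val hz
    simp only [Submodule.coe_sum, Submodule.coe_smul, ZeroMemClass.coe_zero] at hz'
    refine Eq.trans ?_ hz'
    simp only [map_sum, map_smul, LinearMap.sum_apply, LinearMap.smul_apply, Finset.smul_sum, smul_smul]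
    refine Finset.sum_comm.trans (Finset.sum_congr rfl fun i _ => Finset.sum_congr rfl fun j _ => ?_)
    rw [mul_comm]

end Groth.L21.Hopf
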